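import Cfsg.Agent.H686.CharKit
import Cfsg.Agent.CharDeep.DegreeBound
import Cfsg.Agent.LieRecognition.SzMatrix
import Cfsg.Agent.Characters.Values

/-!
# Degrees of the irreducible characters of `Sz(q)`

For a nontrivial irreducible character `χ` there is `d` with `q ≤ 2 d²` and `χ(1) - χ(z) = q k`, `d ≤ k`, for an
involution `z`.
-/

set_option autoImplicit false

open Cfsg Cfsg.Agent.Characters.Core ComplexConjugate

namespace Cfsg.Agent.H240.Rg

/-- linear characters of an abelian group given additively -/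
theorem isIrr_addChar {A : Type*} [AddCommGroup A] (l : AddChar A ℂ) :
    IsIrrCharacter (Multiplicative A) fun a => l (Multiplicative.toAdd a) := by
  let ρ : Representation ℂ (Multiplicative A) ℂ :=
    { toFun := fun a => l (Multiplicative.toAdd a) • (LinearMap.id : ℂ →ₗ[ℂ] ℂ)
      map_one' := by
        show l 0 • _ = _
        rw [AddChar.map_zero_eq_one, one_smul]
        rfl
      map_mul' := fun a b => by
        show l (Multiplicative.toAdd a + Multiplicative.toAdd b) • _ = _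
        rw [AddChar.map_add_eq_mul]
        ext
        simp [mul_comm] }
  have h := isIrrCharacter_of_rep ρ (isIrr_of_finrank_one (by simp) ρ)
  convert h using 1
  ext a
  show _ = LinearMap.trace ℂ ℂ (l (Multiplicative.toAdd a) • (LinearMap.id : ℂ →ₗ[ℂ] ℂ))
  rw [map_smul, LinearMap.trace_id]
  simp

/-- a constituent over a nontrivial character of a central subgroup, and its multiplicity -/
theorem exists_const {G U A : Type*} [Group G] [Finite G] [Group U] [Finite U] [AddCommGroup A] [Finite A] [Nontrivial A]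
    (f : U →* G) (h : Multiplicative A →* U) (hc : ∀ a, h a ∈ Subgroup.center U) {χ : G → ℂ} (hχ : IsIrrCharacter G χ)
    {t : ℂ} (ht : ∀ a : A, a ≠ 0 → χ (f (h (Multiplicative.ofAdd a))) = t) (hne : χ 1 ≠ t) :
    ∃ (ψ : U → ℂ) (l : AddChar A ℂ) (d k : ℕ), IsIrrCharacter U ψ ∧ l ≠ 1 ∧
      (∀ x a, ψ (x * h (Multiplicative.ofAdd a)) = l a * ψ x) ∧ ψ 1 = d ∧ d ≤ k ∧ χ 1 - t = Nat.card A * k := by
  classical
  have := Fintype.ofFinite A
  have := Fintype.ofFinite U
  have := Fintype.ofFinite G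
  have : Finite (IrrCharacter U) := finite_irr
  have := Fintype.ofFinite (IrrCharacter U)
  obtain ⟨m, hm⟩ := exists_nat_comb (isCharacter_comp f (isIrr_isCharacter hχ))
  have hm' : ∀ x, χ (f x) = ∑ ψ : IrrCharacter U, (m ψ : ℂ) * (ψ : U → ℂ) x := by
    intro x
    have := congrFun hm x
    simpa [Finset.sum_apply] using this
  obtain ⟨a0, ha0⟩ := exists_ne (0 : A)
  obtain ⟨ψ, hψm, hψ⟩ : ∃ ψ : IrrCharacter U, m ψ ≠ 0 ∧ (ψ : U → ℂ) (h (Multiplicative.ofAdd a0)) ≠ (ψ : U → ℂ) 1 := by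
    by_contra hcon
    push Not at hcon
    apply hne
    rw [← ht a0 ha0, hm', ← map_one f, hm']
    refine Finset.sum_congr rfl fun ψ _ => ?_
    rcases eq_or_ne (m ψ) 0 with h0 | h0
    · rw [h0]; simp
    · rw [hcon ψ h0]
  obtain ⟨d, hd0, hd⟩ := isIrr_apply_one ψ.2
  have hd0' : (d : ℂ) ≠ 0 := by exact_mod_cast hd0.ne'
  choose w hw1 hw using fun a : A => Cfsg.Agent.CharDeep.DegreeBound.exists_omega ψ.2 (hc (Multiplicative.ofAdd a))
  have hw' : ∀ a, (ψ : U → ℂ) (h (Multiplicative.ofAdd a)) = w a * d := by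
    intro a
    have := hw a 1
    rwa [one_mul, hd] at this
  let l : AddChar A ℂ :=
    { toFun := w
      map_zero_eq_one' := by
        have h1 := hw' 0
        rw [ofAdd_zero, map_one, hd] at h1
        exact (mul_eq_right₀ hd0').1 h1.symm
      map_add_eq_mul' := fun a b => by
        have h1 := hw' (a + b)
        rw [ofAdd_add, map_mul, hw b, hw' a] at h1
        have h2 : (w (a + b) - w a * w b) * d = 0 := by rw [sub_mul, ← h1]; ring
        rcases mul_eq_zero.1 h2 with h3 | h3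
        · exact sub_eq_zero.1 h3
        · exact absurd h3 hd0' }
  have hl : ∀ a, l a = w a := fun _ => rfl
  have hl1 : l ≠ 1 := by
    intro h1
    apply hψ
    rw [hw', ← hl, h1, AddChar.one_apply, one_mul, hd]
  have hΛ := isIrr_addChar l
  -- the multiplicity
  have hchar : IsCharacter (Multiplicative A) fun a => χ (f (h a)) :=
    isCharacter_comp (f.comp h) (isIrr_isCharacter hχ)
  obtain ⟨k, hk⟩ := classInner_isNat hchar (isIrr_isCharacter hΛ)
  have hsum : ∑ a : Multiplicative A, conj (l (Multiplicative.toAdd a)) = 0 := by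
    have h1 : ∑ a : A, l a = 0 := AddChar.sum_eq_zero_of_ne_one hl1
    have h2 : ∑ a : Multiplicative A, l (Multiplicative.toAdd a) = 0 := by
      rw [← h1]
      exact Fintype.sum_equiv Multiplicative.toAdd _ _ fun _ => rfl
    rw [← map_sum, h2, map_zero]
  have hA0 : (Nat.card A : ℂ) ≠ 0 := by exact_mod_cast Nat.card_pos.ne'
  have hcA : Nat.card (Multiplicative A) = Nat.card A := Nat.card_congr Multiplicative.toAdd
  have hk1 : χ 1 - t = Nat.card A * k := by
    rw [← hk, classInner_def, hcA, ← mul_assoc, mul_inv_cancel₀ hA0, one_mul]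
    have h1 : ∀ a : Multiplicative A, χ (f (h a)) * conj (l (Multiplicative.toAdd a)) =
        (if a = 1 then χ 1 - t else 0) + t * conj (l (Multiplicative.toAdd a)) := by
      intro a
      split_ifs with ha
      · subst ha
        rw [map_one, map_one, toAdd_one, AddChar.map_zero_eq_one, map_one]
        ring
      · have h2 := ht (Multiplicative.toAdd a) (fun h0 => ha (by rw [← ofAdd_toAdd a, h0, ofAdd_zero]))
        rw [ofAdd_toAdd] at h2
        rw [h2, zero_add]
    rw [Finset.sum_congr rfl fun a _ => h1 a, Finset.sum_add_distrib, ← Finset.mul_sum, hsum, mul_zero, add_zero,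
      Finset.sum_ite_eq' Finset.univ (1 : Multiplicative A) fun _ => χ 1 - t, if_pos (Finset.mem_univ _)]
  refine ⟨ψ, l, d, k, ψ.2, hl1, fun x a => hw a x, hd, ?_, hk1⟩
  -- `k ≥ d`
  have hin : ∀ φ : IrrCharacter U, ∃ n : ℕ, classInner (fun a : Multiplicative A => (φ : U → ℂ) (h a))
      (fun a => l (Multiplicative.toAdd a)) = n := fun φ =>
    classInner_isNat (isCharacter_comp h (isIrr_isCharacter φ.2)) (isIrr_isCharacter hΛ)
  choose n hn using hin
  have hnψ : n ψ = d := by
    have h1 := hn ψ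
    have h2 : (fun a : Multiplicative A => (ψ : U → ℂ) (h a)) = (d : ℂ) • fun a => l (Multiplicative.toAdd a) := by
      ext a
      have := hw' (Multiplicative.toAdd a)
      rw [ofAdd_toAdd] at this
      rw [this, Pi.smul_apply, smul_eq_mul, hl]
      ring
    rw [h2, classInner_smul_left, classInner_irr_self hΛ, mul_one] at h1
    exact_mod_cast h1.symm
  have hkn : (k : ℂ) = ∑ φ : IrrCharacter U, (m φ : ℂ) * n φ := by
    have h3 : (fun a : Multiplicative A => χ (f (h a))) =
        ∑ φ : IrrCharacter U, (m φ : ℂ) • fun a : Multiplicative A => (φ : U → ℂ) (h a) := by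
      ext a
      rw [hm', Finset.sum_apply]
      rfl
    rw [← hk, h3, classInner_sum_left]
    refine Finset.sum_congr rfl fun φ _ => ?_
    rw [classInner_smul_left, hn]
  have hkn' : k = ∑ φ : IrrCharacter U, m φ * n φ := by exact_mod_cast hkn
  rw [hkn']
  calc d = 1 * n ψ := by rw [hnψ, one_mul]
    _ ≤ m ψ * n ψ := Nat.mul_le_mul_right _ (Nat.one_le_iff_ne_zero.2 hψm)
    _ ≤ _ := Finset.single_le_sum (f := fun φ => m φ * n φ) (fun _ _ => Nat.zero_le _) (Finset.mem_univ ψ)

/-! ### the Suzuki groups -/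

open Cfsg.Agent.LieRecognition.SzMatrix

section sz

variable {F : Type*} [Field F] {θ : F →+* F} {e : ℕ}

theorem u0_comm (H : Good F θ e) (a b c : F) : H.u a b * H.u 0 c = H.u 0 c * H.u a b := by
  rw [H.u_mul, H.u_mul]
  congr 1
  · ring
  · rw [map_zero]; ring

theorem u_conj (H : Good F θ e) (a b c : F) :
    H.u c 0 * H.u a b * (H.u c 0)⁻¹ = H.u a b * H.u 0 (c * θ a + a * θ c) := by
  rw [mul_inv_eq_iff_eq_mul, H.u_mul, H.u_mul, H.u_mul]
  congr 1
  · ring
  · rw [map_zero]
    linear_combination (-(a * θ c)) * H.two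

/-- for a nontrivial additive character all but at most one `a ≠ 0` have a nontrivial commutator value -/
theorem exists_bad [Finite F] (H : Good F θ e) {l : AddChar F ℂ} (hl : l ≠ 1) :
    ∃ s : F, ∀ a : F, a ≠ 0 → a ≠ s → ∃ c, l (c * θ a + a * θ c) ≠ 1 := by
  classical
  have := Fintype.ofFinite F
  have hp : l.IsPrimitive := AddChar.IsPrimitive.of_ne_one hl
  have hs : Function.Surjective l.mulShift :=
    ((Fintype.bijective_iff_injective_and_card _).2 ⟨AddChar.to_mulShift_inj_of_isPrimitive hp, AddChar.card_eq.symm⟩).2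
  obtain ⟨s, hs⟩ := hs (l.compAddMonoidHom (θ : F →+ F))
  have hs' : ∀ x, l (θ x) = l (s * x) := fun x => by
    have := DFunLike.congr_fun hs x
    rw [AddChar.mulShift_apply] at this
    exact this.symm
  refine ⟨θ s, fun a ha0 has => ?_⟩
  by_contra hcon
  push Not at hcon
  obtain ⟨a', ha'⟩ := (Finite.injective_iff_surjective.1 θ.injective) a
  have h1 : l.mulShift (θ a + s * a') = 1 := by
    ext c
    have e1 : θ (a' * c) = a * θ c := by rw [map_mul, ha']
    rw [AddChar.mulShift_apply, AddChar.one_apply, ← hcon c, add_mul, AddChar.map_add_eq_mul, AddChar.map_add_eq_mul,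
      mul_comm (θ a) c, mul_assoc s, ← hs', e1]
  have h2 : θ a + s * a' = 0 := by
    by_contra h3
    exact hp h3 h1
  have h3 := congrArg θ h2
  rw [map_add, map_mul, map_zero, H.sq, ha'] at h3
  have h4 : a * (a + θ s) = 0 := by linear_combination h3
  rcases mul_eq_zero.1 h4 with h5 | h5
  · exact ha0 h5
  · exact has (by rw [← H.neg_eq (θ s)]; exact eq_neg_of_add_eq_zero_left h5)

/-- all nontrivial central elements are conjugate -/
theorem u0_isConj [Finite F] (H : Good F θ e) {a b : F} (ha : a ≠ 0) (hb : b ≠ 0) : IsConj (H.u 0 a) (H.u 0 b) := by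
  obtain ⟨k, hk⟩ := (Finite.injective_iff_surjective.1 θ.injective) (b / a)
  have hk0 : k ≠ 0 := by
    rintro rfl
    rw [map_zero] at hk
    exact div_ne_zero hb ha hk.symm
  rw [isConj_iff]
  refine ⟨H.d (Units.mk0 k hk0), ?_⟩
  rw [H.d_mul_u, mul_inv_cancel_right]
  congr 1
  · ring
  · rw [Units.val_mk0, hk]; field_simp

/-- **the degree**: `q ≤ 2 d²`, `d ≤ k` and `χ(1) - χ(z) = q k`. -/
theorem deg_sz [Finite F] (H : Good F θ e) {χ : ↥(Cfsg.Lie.Sz F e) → ℂ}
    (hχ : IsIrrCharacter ↥(Cfsg.Lie.Sz F e) χ) (hne : χ 1 ≠ χ (H.u 0 1)) :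
    ∃ d : ℕ, Nat.card F ≤ 2 * d ^ 2 ∧ ∃ k : ℕ, d ≤ k ∧ χ 1 - χ (H.u 0 1) = Nat.card F * k := by
  classical
  have : Finite (GL (Fin 4) F) := inferInstance
  have := Fintype.ofFinite F
  let h : Multiplicative F →* H.unip :=
    { toFun := fun a => ⟨H.u 0 (Multiplicative.toAdd a), H.u_mem_unip _ _⟩
      map_one' := Subtype.ext H.u_zero
      map_mul' := fun a b => Subtype.ext (by
        show H.u 0 (Multiplicative.toAdd a + Multiplicative.toAdd b) =
          H.u 0 (Multiplicative.toAdd a) * H.u 0 (Multiplicative.toAdd b)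
        rw [H.u_mul]
        congr 1 <;> simp) }
  obtain ⟨ψ, l, d, k, hψ, hl, hψl, hd, hdk, hk⟩ := exists_const H.unip.subtype h (fun a => by
      rw [Subgroup.mem_center_iff]
      intro g
      obtain ⟨b, c, hbc⟩ := (H.mem_unip_iff _).1 g.2
      apply Subtype.ext
      show (g : ↥(Cfsg.Lie.Sz F e)) * H.u 0 _ = H.u 0 _ * g
      rw [hbc, u0_comm]) hχ (t := χ (H.u 0 1)) (fun a ha => by
      obtain ⟨g, hg⟩ := isConj_iff.1 (u0_isConj H (one_ne_zero (α := F)) ha)
      show χ (H.u 0 a) = _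
      rw [← hg]
      exact isIrr_isClassFunction hχ _ _) hne
  refine ⟨d, ?_, k, hdk, hk⟩
  obtain ⟨s, hs⟩ := exists_bad H hl
  have hcl := isIrr_isClassFunction hψ
  have hz : ∀ a b : F, a ≠ 0 → a ≠ s → ψ ⟨H.u a b, H.u_mem_unip a b⟩ = 0 := by
    intro a b ha has
    obtain ⟨c, hc⟩ := hs a ha has
    have h1 := hcl ⟨H.u a b, H.u_mem_unip a b⟩ ⟨H.u c 0, H.u_mem_unip c 0⟩
    have h2 : (⟨H.u c 0, H.u_mem_unip c 0⟩ * ⟨H.u a b, H.u_mem_unip a b⟩ * (⟨H.u c 0, H.u_mem_unip c 0⟩)⁻¹ : H.unip) =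
        ⟨H.u a b, H.u_mem_unip a b⟩ * h (Multiplicative.ofAdd (c * θ a + a * θ c)) := Subtype.ext (u_conj H a b c)
    rw [h2, hψl] at h1
    have h3 : (l (c * θ a + a * θ c) - 1) * ψ ⟨H.u a b, H.u_mem_unip a b⟩ = 0 := by rw [sub_mul, h1, one_mul, sub_self]
    rcases mul_eq_zero.1 h3 with h4 | h4
    · exact absurd (sub_eq_zero.1 h4) hc
    · exact h4
  have : Fintype H.unip := Fintype.ofFinite _
  have hsum := CharDeep.DegreeBound.sum_sq_irr hψ
  have hle : ∀ x : H.unip, ‖ψ x‖ ≤ d := by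
    intro x
    obtain ⟨n, ρ, hρ, rfl⟩ := hψ
    have h1 := Characters.Values.norm_character_le ρ x
    have h2 : (d : ℂ) = Module.finrank ℂ (Fin n → ℂ) := by
      rw [← hd, Representation.char_one]
    have h3 : d = Module.finrank ℂ (Fin n → ℂ) := by exact_mod_cast h2
    rwa [h3]
  have hsum2 : ∑ x : H.unip, ‖ψ x‖ ^ 2 = ∑ p : F × F, ‖ψ ⟨H.u p.1 p.2, H.u_mem_unip p.1 p.2⟩‖ ^ 2 :=
    (Fintype.sum_equiv H.unipEquiv _ _ fun p => rfl).symm
  have hbound : ∑ p : F × F, ‖ψ ⟨H.u p.1 p.2, H.u_mem_unip p.1 p.2⟩‖ ^ 2 ≤ 2 * Nat.card F * (d : ℝ) ^ 2 := by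
    rw [Fintype.sum_prod_type]
    calc ∑ a : F, ∑ b : F, ‖ψ ⟨H.u a b, H.u_mem_unip a b⟩‖ ^ 2
        ≤ ∑ a : F, if a = 0 ∨ a = s then Nat.card F * (d : ℝ) ^ 2 else 0 := by
          refine Finset.sum_le_sum fun a _ => ?_
          split_ifs with ha
          · calc ∑ b : F, ‖ψ ⟨H.u a b, H.u_mem_unip a b⟩‖ ^ 2 ≤ ∑ _b : F, (d : ℝ) ^ 2 :=
                  Finset.sum_le_sum fun b _ => pow_le_pow_left₀ (norm_nonneg _) (hle _) 2
              _ = _ := by rw [Finset.sum_const, Finset.card_univ, nsmul_eq_mul, Nat.card_eq_fintype_card]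
          · push Not at ha
            refine le_of_eq (Finset.sum_eq_zero fun b _ => ?_)
            rw [hz a b ha.1 ha.2, norm_zero]
            norm_num
      _ ≤ ∑ a ∈ ({0, s} : Finset F), Nat.card F * (d : ℝ) ^ 2 := by
          rw [← Finset.sum_filter]
          refine Finset.sum_le_sum_of_subset_of_nonneg (fun a ha => ?_) fun _ _ _ => by positivity
          simpa using ha
      _ ≤ _ := by
          rw [Finset.sum_const, nsmul_eq_mul]
          have : ((({0, s} : Finset F).card : ℕ) : ℝ) ≤ 2 := by exact_mod_cast Finset.card_le_two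
          have h0 : (0 : ℝ) ≤ Nat.card F * (d : ℝ) ^ 2 := by positivity
          nlinarith
  have hfin : (Nat.card F : ℝ) ^ 2 ≤ 2 * Nat.card F * (d : ℝ) ^ 2 := by
    calc (Nat.card F : ℝ) ^ 2 = (Nat.card H.unip : ℝ) := by rw [H.card_unip]; push_cast; rfl
      _ = _ := hsum.symm
      _ = _ := hsum2
      _ ≤ _ := hbound
  have hq : (0 : ℝ) < Nat.card F := by exact_mod_cast Nat.card_pos
  have : (Nat.card F : ℝ) ≤ 2 * (d : ℝ) ^ 2 := by
    by_contra hcon
    push Not at hcon
    nlinarith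
  exact_mod_cast this

end sz

end Cfsg.Agent.H240.Rg
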